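import Groth.Agent.L18.AmpleOps
import Groth.Agent.L18.AmpleGG
import Groth.Agent.L18.SpecLine

/-!
Common-degree extensions of sections over non-vanishing loci.
-/

set_option autoImplicit false
set_option backward.isDefEq.respectTransparency false
set_option linter.style.haveILetI false
universe u

open CategoryTheory AlgebraicGeometry TopologicalSpace Opposite

noncomputable section

namespace Groth.L22.VeryAmple

open Groth.L18.Frame (rs ro rs_rs rs_self rs_smul ro_ro ro_self ro_mul IsFrame)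
open Groth.L18.GenLoc Groth.L18.Ample

variable {X : Scheme.{u}} {M B : X.Modules}

theorem isInvertible_tw (hB : PicF.IsInvertible B) (hM : PicF.IsInvertible M) :
    ∀ K, PicF.IsInvertible (tw B M K)
  | 0 => hB
  | K + 1 => isInvertible_tensor (isInvertible_tw hB hM K) hM

/-- `u ⊗ s^K`. -/
def powSec (s : Coh.structureModule X ⟶ M) (u : Γ(B, ⊤)) (K : ℕ) : Γ(tw B M K, ⊤) := it (secOf s) ⊤ u K

theorem rs_powSec (s : Coh.structureModule X ⟶ M) (u : Γ(B, ⊤)) (K : ℕ) (W : X.Opens) :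
    rs (tw B M K) (le_top : W ≤ ⊤) (powSec s u K) = it (secOf s) W (rs B le_top u) K := by
  rw [powSec, it_rs]

theorem it_eq {W : X.Opens} {s : Coh.structureModule X ⟶ M} (hW : W ≤ CohB1.genLocus M s) (a : Γ(X, W))
    (e : Γ(B, W)) (K : ℕ) :
    it (secOf s) W (a • e) K = a • fr e (rs M (le_top : W ≤ ⊤) (secOf s)) K := by
  rw [it_fr (secOf s) (a := (1 : Γ(X, W))) (ε := rs M le_top (secOf s)) (one_smul _ _), one_pow, mul_one]

theorem it_smul_of_le {W : X.Opens} {s : Coh.structureModule X ⟶ M} (hW : W ≤ CohB1.genLocus M s) (a : Γ(X, W))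
    (e : Γ(B, W)) (K : ℕ) : a • it (secOf s) W e K = it (secOf s) W (a • e) K := by
  have h := it_eq hW 1 e K
  rw [one_smul, one_smul] at h
  rw [it_eq hW, h]

theorem isFrame_powFrame {W : X.Opens} {s : Coh.structureModule X ⟶ M} (hW : W ≤ CohB1.genLocus M s)
    {e : Γ(B, W)} (he : IsFrame B W e) {K : ℕ} : IsFrame (tw B M K) W (it (secOf s) W e K) := by
  have h := it_eq hW 1 e K
  rw [one_smul, one_smul] at h
  rw [h]
  have hs := (isFrame_genLocus s).mono hW
  rw [rs_rs] at hs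
  exact isFrame_fr he hs K

/-- The locus of `u ⊗ s^K` lies in the intersection of the loci for positive `K`. -/
theorem le_genLocus_of_isFrame_powSec (hM : PicF.IsInvertible M) (hB : PicF.IsInvertible B)
    (s : Coh.structureModule X ⟶ M) (u : Coh.structureModule X ⟶ B) {K : ℕ}
    (hK : 1 ≤ K) {W : X.Opens} (h : IsFrame (tw B M K) W (rs (tw B M K) le_top (powSec s (secOf u) K))) :
    W ≤ CohB1.genLocus M s ⊓ CohB1.genLocus B u := by
  intro y hy
  obtain ⟨V₁, ε, -, hyV₁, hε⟩ := exists_affine_frame hM y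
  obtain ⟨V₂, e, -, hyV₂, he⟩ := exists_affine_frame hB y
  have hV : W ⊓ (V₁ ⊓ V₂) ≤ W := inf_le_left
  set V := W ⊓ (V₁ ⊓ V₂)
  have hε' := hε.mono (inf_le_right.trans inf_le_left : V ≤ V₁)
  have he' := he.mono (inf_le_right.trans inf_le_right : V ≤ V₂)
  obtain ⟨a, ha⟩ := hε'.exists_coeff le_rfl (rs M le_top (secOf s))
  obtain ⟨b, hb⟩ := he'.exists_coeff le_rfl (rs B le_top (secOf u))
  rw [rs_self] at ha hb
  have h1 := h.mono hV
  rw [rs_rs, rs_powSec, ← hb, it_fr (secOf s) ha] at h1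
  have hu : IsUnit (b * a ^ K) := Groth.L18.Frame.isUnit_of_isFrame (isFrame_fr he' hε' _) h1
  rw [IsUnit.mul_iff, isUnit_pow_iff (by omega)] at hu
  have hyV : y ∈ V := ⟨hy, hyV₁, hyV₂⟩
  exact ⟨((genLocus_inf_eq s hε' ha).ge (by rw [X.basicOpen_of_isUnit hu.2]; exact hyV)).1,
    ((genLocus_inf_eq u he' hb).ge (by rw [X.basicOpen_of_isUnit hu.1]; exact hyV)).1⟩

theorem exists_extend_ge [CompactSpace X] [QuasiSeparatedSpace X] (hM : PicF.IsInvertible M)
    (hB : PicF.IsInvertible B) (s : Coh.structureModule X ⟶ M) (m : Γ(B, CohB1.genLocus M s)) :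
    ∃ k : ℕ, ∀ K, k ≤ K → ∃ t : Γ(tw B M K, ⊤),
      rs (tw B M K) le_top t = it (secOf s) (CohB1.genLocus M s) m K := by
  obtain ⟨k, t, ht⟩ := exists_extend hM hB s m
  refine ⟨k, fun K hK => ?_⟩
  induction hK with
  | refl => exact ⟨t, ht⟩
  | @step p hp ih =>
    obtain ⟨t', ht'⟩ := ih
    refine ⟨tens _ M ⊤ t' (secOf s), ?_⟩
    show rs (CohB1.tensorMod (tw B M p) M) le_top (tens _ M ⊤ t' (secOf s)) = tens _ M _ (it _ _ _ p) _
    rw [tens_rs, ht']

theorem exists_sections [CompactSpace X] [QuasiSeparatedSpace X] (hM : PicF.IsInvertible M)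
    (hB : PicF.IsInvertible B) {ι : Type u} [Finite ι] (s : ι → (Coh.structureModule X ⟶ M))
    {σ : Type u} [Finite σ] (u : σ → (Coh.structureModule X ⟶ B)) (γ : ι → Type u) [∀ i, Finite (γ i)]
    (f : ∀ i, γ i → Γ(X, CohB1.genLocus M (s i))) :
    ∃ k : ℕ, ∀ K, k ≤ K → ∀ p : (Σ i, γ i) × σ, ∃ t : Γ(tw B M K, ⊤),
      rs (tw B M K) (le_top : CohB1.genLocus M (s p.1.1) ≤ ⊤) t =
        f p.1.1 p.1.2 • it (secOf (s p.1.1)) (CohB1.genLocus M (s p.1.1))
          (rs B (le_top : CohB1.genLocus M (s p.1.1) ≤ ⊤) (secOf (u p.2))) K := by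
  choose k hk using fun p : (Σ i, γ i) × σ =>
    exists_extend_ge hM hB (s p.1.1) (f p.1.1 p.1.2 • rs B le_top (secOf (u p.2)))
  obtain ⟨K₀, hK₀⟩ := (Set.finite_range k).bddAbove
  refine ⟨K₀, fun K hK p => ?_⟩
  obtain ⟨t, ht⟩ := hk p K ((hK₀ ⟨p, rfl⟩).trans hK)
  exact ⟨t, ht.trans (it_smul_of_le le_rfl _ _ K).symm⟩

theorem exists_gg_powers {L : X.Modules} (hL : CohB1.IsAmple L) :
    ∃ n₁ : ℕ, ∀ n, n₁ ≤ n → ∃ (σ : Type u) (_ : Finite σ) (u : σ → (Coh.structureModule X ⟶ CohB1.tensorPow L n)),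
      ∀ x, ∃ m, x ∈ CohB1.genLocus _ (u m) := by
  haveI := hL.2.1
  obtain ⟨n₁, -, hn₁⟩ := exists_forall_isAmple_gg hL (isInvertible_structureModule X)
  refine ⟨n₁, fun n hn => ?_⟩
  have hgg := (hn₁ n hn).2
  have hinv := isInvertible_tensor (isInvertible_tensorPow hL.1 n) (isInvertible_structureModule X)
  choose v hv using fun x => exists_genLocus_mem_of_gg hinv hgg x
  obtain ⟨T, hT⟩ := isCompact_univ.elim_finite_subcover
    (fun x : X => (CohB1.genLocus _ (v x) : Set X)) (fun x => (CohB1.genLocus _ (v x)).2)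
    (fun x _ => Set.mem_iUnion.2 ⟨x, hv x⟩)
  refine ⟨T, inferInstance, fun x => v x.1 ≫ (Groth.L00.Tensor.tensorUnitRight _).hom, fun x => ?_⟩
  obtain ⟨y, hy, hxy⟩ := Set.mem_iUnion₂.1 (hT (Set.mem_univ x))
  exact ⟨⟨y, hy⟩, by rw [Groth.L16.genLocus_comp_iso]; exact hxy⟩

/-- Twists of powers are powers. -/
def twTensorPow (L : X.Modules) (a d : ℕ) :
    ∀ K, tw (CohB1.tensorPow L a) (CohB1.tensorPow L d) K ≅ CohB1.tensorPow L (a + d * K)
  | 0 => eqToIso (congrArg (CohB1.tensorPow L) (by simp))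
  | K + 1 => Groth.L00.Tensor.tensorIso (twTensorPow L a d K) (Iso.refl _) ≪≫
      Groth.L00.Tensor.tensorPowAdd L (a + d * K) d ≪≫
      eqToIso (congrArg (CohB1.tensorPow L) (by ring))

end Groth.L22.VeryAmple
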