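import Groth.Agent.L22.VeryAmple.Immersion
import Groth.Agent.L18.AmpleLocal
import Groth.Agent.L16.ProjSpace.BaseChange
import Groth.Agent.L16.ProjSpace.PosFrames

/-!
Very ample relative to an affine base, in the `ℙⁿ` form.
-/

set_option autoImplicit false
set_option backward.isDefEq.respectTransparency false
set_option linter.style.haveILetI false
universe u

open CategoryTheory CategoryTheory.Limits AlgebraicGeometry TopologicalSpace MvPolynomial

noncomputable section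

namespace Groth.L22.VeryAmple

open Groth.L16.ProjSpace (isoOver overMap map)

theorem isAmple_O1 (n : ℕ) (R : Type u) [CommRing R] : CohB1.IsAmple (Groth.L18.PUP.O1 n R) := by
  refine Groth.L16.ProjTwist.isAmple_twist (CohB1.polyGrading n R) (d := 1) one_pos
    (fun i : ULift.{u} (Fin (n + 1)) => ⟨X i.down, Groth.L18.PS.X_mem n i.down⟩) ?_
  refine top_le_iff.1 fun x _ => Opens.mem_iSup.2 ?_
  obtain ⟨i, hi⟩ := Opens.mem_iSup.1 ((Groth.L18.PS.iSup_chart (n := n) (R := R)).ge (trivial : x ∈ (⊤ : (Groth.L18.PUP.P n R).Opens)))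
  exact ⟨⟨i⟩, hi⟩

theorem exists_iso_over (n : ℕ) (Y : Scheme.{u}) [IsAffine Y] :
    ∃ e : Groth.L18.PUP.P n Γ(Y, ⊤) ≅ CohB1.ProjSpaceOver n Y,
      e.hom ≫ CohB1.ProjSpaceOver.toBase n Y = Groth.L18.PUP.pr n Γ(Y, ⊤) ≫ Y.isoSpec.inv ∧
      Nonempty ((Scheme.Modules.pullback e.hom).obj (Twist.twistOver n Y 1) ≅ Groth.L18.PUP.O1 n Γ(Y, ⊤)) := by
  haveI : IsIso (overMap n Y.isoSpec.inv) := by
    delta Groth.L16.ProjSpace.overMap
    infer_instance
  let φ : ULift.{u} ℤ →+* Γ(Y, ⊤) := (algebraMap ℤ Γ(Y, ⊤)).comp ULift.ringEquiv.toRingHom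
  have h1 : ((isoOver n Γ(Y, ⊤)).hom ≫ overMap n Y.isoSpec.inv) ≫
      pullback.fst (CohB1.ProjSpace.toSpec n (ULift.{u} ℤ)) (specULiftZIsTerminal.from Y) = map n φ := by
    rw [Category.assoc]
    refine (congrArg (fun z => (isoOver n Γ(Y, ⊤)).hom ≫ z)
      ((pullback.lift_fst _ _ _).trans (Category.comp_id _))).trans ?_
    exact (Groth.L16.ProjSpace.isPullback_over n (R := Γ(Y, ⊤))).isoPullback_hom_fst
  refine ⟨isoOver n Γ(Y, ⊤) ≪≫ asIso (overMap n Y.isoSpec.inv), ?_, ?_⟩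
  · show ((isoOver n Γ(Y, ⊤)).hom ≫ overMap n Y.isoSpec.inv) ≫ _ = _
    rw [Category.assoc]
    refine (congrArg (fun z => (isoOver n Γ(Y, ⊤)).hom ≫ z) (pullback.lift_snd _ _ _)).trans ?_
    rw [← Category.assoc]
    exact congrArg (· ≫ Y.isoSpec.inv) (Groth.L16.ProjSpace.isoOver_hom_toBase (n := n) (R := Γ(Y, ⊤)))
  · obtain ⟨τ⟩ := Groth.L16.ProjSpace.nonempty_pullback_twist_iso n φ 1
    exact ⟨(Scheme.Modules.pullbackComp _ _).app _ ≪≫ (Scheme.Modules.pullbackCongr h1).app _ ≪≫ τ⟩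

variable {X Y : Scheme.{u}} [IsAffine Y] (q : X ⟶ Y)

theorem exists_forall_isRelVeryAmplePn [IsSeparated q] [LocallyOfFiniteType q]
    {L : X.Modules} (hL : CohB1.IsAmple L) :
    ∃ n₀ : ℕ, ∀ n, n₀ ≤ n → RelAmple.IsRelVeryAmplePn q (CohB1.tensorPow L n) := by
  haveI : X.IsSeparated := Groth.L18.Ample.isSeparated_of_isAmple hL
  obtain ⟨n₀, h⟩ := exists_forall_immersion_of_isAmple (R := Γ(Y, ⊤)) (q ≫ Y.isoSpec.hom) hL
  refine ⟨n₀, fun N hN => ?_⟩
  obtain ⟨n, r, hr, hi, ⟨τ⟩⟩ := h N hN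
  obtain ⟨e, he, ⟨ε⟩⟩ := exists_iso_over n Y
  refine ⟨n, r ≫ e.hom, inferInstance, ?_, ⟨(((Scheme.Modules.pullbackComp r e.hom).app _).symm ≪≫
    (Scheme.Modules.pullback r).mapIso ε ≪≫ τ).symm⟩⟩
  show (r ≫ e.hom) ≫ CohB1.ProjSpaceOver.toBase n Y = q
  rw [Category.assoc, he, ← Category.assoc, hr, Category.assoc, Iso.hom_inv_id, Category.comp_id]

theorem isAmple_of_isRelVeryAmplePn [QuasiCompact q] {M : X.Modules} (h : RelAmple.IsRelVeryAmplePn q M) :
    CohB1.IsAmple M := by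
  obtain ⟨n, i, hi, hq, ⟨τ⟩⟩ := h
  obtain ⟨e, he, ⟨ε⟩⟩ := exists_iso_over n Y
  haveI : CompactSpace X := QuasiCompact.compactSpace_of_compactSpace q
  let r := i ≫ e.inv
  haveI : IsImmersion r := inferInstance
  haveI : (Groth.L18.PUP.P n Γ(Y, ⊤)).IsSeparated := Groth.L18.Ample.isSeparated_of_isAmple (isAmple_O1 n _)
  haveI : QuasiCompact r := by
    have : r ≫ terminal.from _ = terminal.from X := terminal.comp_from r
    haveI : QuasiCompact (r ≫ terminal.from (Groth.L18.PUP.P n Γ(Y, ⊤))) := by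
      rw [this]
      exact (quasiCompact_iff_compactSpace _).2 inferInstance
    exact QuasiCompact.of_comp r (terminal.from _)
  have hqa : ∀ W : (Groth.L18.PUP.P n Γ(Y, ⊤)).Opens, IsAffineOpen W → Scheme.IsQuasiAffine (r ⁻¹ᵁ W : Scheme.{u}) := by
    intro W hW
    haveI : IsAffine W.toScheme := hW
    haveI : CompactSpace (r ⁻¹ᵁ W : Scheme.{u}) := isCompact_iff_compactSpace.1 (r.isCompact_preimage hW.isCompact)
    exact Scheme.IsQuasiAffine.of_isImmersion (r ∣_ W)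
  have h1 := Groth.L18.Ample.isAmple_pullback_of_quasiAffine r hqa (isAmple_O1 n _)
  refine Groth.L18.Ample.isAmple_of_iso ?_ h1
  exact (Scheme.Modules.pullback r).mapIso ε.symm ≪≫ (Scheme.Modules.pullbackComp r e.hom).app _ ≪≫
    (Scheme.Modules.pullbackCongr (show r ≫ e.hom = i by simp [r])).app _ ≪≫ τ.symm

end Groth.L22.VeryAmple
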