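import Groth.Agent.L22.VeryAmple.Sections
import Groth.Agent.L18.ProjSpaceUP
import Mathlib.AlgebraicGeometry.Morphisms.Immersion
import Mathlib.AlgebraicGeometry.Morphisms.FiniteType
import Mathlib.RingTheory.FiniteType

/-!
An ample invertible module gives an immersion into projective space.
-/

set_option autoImplicit false
set_option backward.isDefEq.respectTransparency false
set_option linter.style.haveILetI false
universe u

open CategoryTheory AlgebraicGeometry TopologicalSpace Opposite MvPolynomial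

noncomputable section

namespace Groth.L22.VeryAmple

open Groth.L18.Frame (rs ro rs_rs rs_self rs_smul ro_ro ro_self ro_mul IsFrame)
open Groth.L18.GenLoc Groth.L18.Ample

variable {X : Scheme.{u}} {R : Type u} [CommRing R]

theorem exists_generators (q : X ⟶ Spec (CommRingCat.of R)) [LocallyOfFiniteType q] {G : X.Opens}
    (hG : IsAffineOpen G) :
    ∃ (γ : Type u) (_ : Finite γ) (f : γ → Γ(X, G)), ∀ A : Subring Γ(X, G),
      (∀ c, q.appLE ⊤ G (by simp) c ∈ A) → (∀ j, f j ∈ A) → A = ⊤ := by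
  have hft := HasRingHomProperty.appLE @LocallyOfFiniteType q inferInstance
    ⟨⊤, isAffineOpen_top _⟩ ⟨G, hG⟩ (by simp)
  letI := (q.appLE ⊤ G (by simp)).hom.toAlgebra
  obtain ⟨S, hS⟩ := (hft : Algebra.FiniteType Γ(Spec (CommRingCat.of R), ⊤) Γ(X, G)).out
  refine ⟨S, inferInstance, fun j => j.1, fun A hc hf => ?_⟩
  let A' : Subalgebra Γ(Spec (CommRingCat.of R), ⊤) Γ(X, G) :=
    { A.toSubsemiring with algebraMap_mem' := hc }
  have h : Algebra.adjoin Γ(Spec (CommRingCat.of R), ⊤) (S : Set Γ(X, G)) ≤ A' :=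
    Algebra.adjoin_le fun a ha => hf ⟨a, ha⟩
  rw [hS] at h
  exact eq_top_iff.2 fun a _ => h trivial

theorem exists_generators_finset (q : X ⟶ Spec (CommRingCat.of R)) [LocallyOfFiniteType q]
    {ι : Type u} (G : ι → X.Opens) (hG : ∀ i, IsAffineOpen (G i)) :
    ∃ (γ : ι → Type u) (_ : ∀ i, Finite (γ i)) (f : ∀ i, γ i → Γ(X, G i)), ∀ (i : ι) (A : Subring Γ(X, G i)),
      (∀ c, q.appLE ⊤ (G i) (by simp) c ∈ A) → (∀ j, f i j ∈ A) → A = ⊤ := by
  choose γ hγ f hf using fun i => exists_generators q (hG i)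
  exact ⟨γ, hγ, f, hf⟩

theorem isClosedImmersion_restrict_iSup {Y : Scheme.{u}} (r : X ⟶ Y) {ι : Type*} (D : ι → Y.Opens)
    (h : ∀ i, IsClosedImmersion (r ∣_ D i)) : IsClosedImmersion (r ∣_ iSup D) := by
  rw [IsZariskiLocalAtTarget.iff_of_iSup_eq_top (P := @IsClosedImmersion)
    (fun i => (iSup D).ι ⁻¹ᵁ D i) (eq_top_iff.2 fun y _ => by
      obtain ⟨i, hi⟩ := Opens.mem_iSup.1 y.2
      exact Opens.mem_iSup.2 ⟨i, hi⟩)]
  intro i
  have h1 : (iSup D).ι ''ᵁ ((iSup D).ι ⁻¹ᵁ D i) = D i := by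
    rw [Scheme.Hom.image_preimage_eq_opensRange_inf, Scheme.Opens.opensRange_ι, inf_eq_right]
    exact le_iSup D i
  rw [MorphismProperty.arrow_mk_iso_iff (P := @IsClosedImmersion)
    (morphismRestrictRestrict r _ _ ≪≫ morphismRestrictEq r h1)]
  exact h i

/-- Sections with affine loci and enough coefficients give an immersion. -/
theorem exists_immersion (q : X ⟶ Spec (CommRingCat.of R)) {N : X.Modules} (hN : PicF.IsInvertible N)
    {κ : Type u} [Finite κ] (S₀ : κ → Γ(N, ⊤)) {ι : Type u} (c₀ : ι → κ) (G : ι → X.Opens)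
    (hcov : ∀ x, ∃ i, x ∈ G i) (haff : ∀ i, IsAffineOpen (G i))
    (hfr : ∀ i, IsFrame N (G i) (rs N le_top (S₀ (c₀ i))))
    (hmax : ∀ i (W : X.Opens), IsFrame N W (rs N le_top (S₀ (c₀ i))) → W ≤ G i)
    (hgen : ∀ (i : ι) (A : Subring Γ(X, G i)),
      (∀ c, q.appLE ⊤ (G i) (by simp) c ∈ A) →
      (∀ (j : κ) (a : Γ(X, G i)), a • rs N (le_top : G i ≤ ⊤) (S₀ (c₀ i)) = rs N (le_top : G i ≤ ⊤) (S₀ j) → a ∈ A) → A = ⊤) :
    ∃ (n : ℕ) (r : X ⟶ Groth.L18.PUP.P n R) (_ : r ≫ Groth.L18.PUP.pr n R = q),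
      IsImmersion r ∧ Nonempty ((Scheme.Modules.pullback r).obj (Groth.L18.PUP.O1 n R) ≅ N) := by
  classical
  haveI := Fintype.ofFinite κ
  let n : ℕ := Fintype.card κ
  let e : Option κ ≃ Fin (n + 1) := Fintype.equivFinOfCardEq (Fintype.card_option (α := κ))
  let S : Fin (n + 1) → Γ(N, ⊤) := fun j => (e.symm j).elim 0 S₀
  have hSe : ∀ k, S (e (some k)) = S₀ k := fun k => by simp [S]
  let j₀ : ι → Fin (n + 1) := fun i => e (some (c₀ i))
  have hfrS : ∀ i, IsFrame N (G i) (rs N le_top (S (j₀ i))) := fun i => by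
    rw [hSe]; exact hfr i
  obtain ⟨r, hr, τ, hτ⟩ := Groth.L18.PUP.exists_hom q N hN S
    (Groth.L18.SpecLine.generatedBy_of_frames (ι := Fin (n + 1)) S fun x => by
      obtain ⟨i, hi⟩ := hcov x
      exact ⟨_, j₀ i, hi, hfrS i⟩)
  have hτrs : ∀ (W : X.Opens) (j : Fin (n + 1)),
      τ.hom.app W (rs _ le_top (Groth.L18.PUP.rT r j)) = rs N le_top (S j) := fun W j => by
    rw [← hτ j]
    exact congr($(τ.hom.mapPresheaf.naturality (homOfLE (le_top : W ≤ ⊤)).op) (Groth.L18.PUP.rT r j))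
  have hframe : ∀ (W : X.Opens) (j : Fin (n + 1)),
      IsFrame ((Scheme.Modules.pullback r).obj (Groth.L18.PUP.O1 n R)) W (rs _ le_top (Groth.L18.PUP.rT r j)) ↔
        IsFrame N W (rs N le_top (S j)) := fun W j => by
    refine forall_congr' fun V => forall_congr' fun hV => ?_
    have e1 : (fun b : Γ(X, V) => b • rs N hV (rs N le_top (S j))) =
        τ.hom.app V ∘ fun b => b • rs ((Scheme.Modules.pullback r).obj (Groth.L18.PUP.O1 n R)) hV
          (rs _ le_top (Groth.L18.PUP.rT r j)) := by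
      funext b
      simp only [rs_rs, Function.comp_apply, Scheme.Modules.Hom.app_smul, hτrs]
    rw [e1]
    exact (Function.Bijective.of_comp_iff' (ConcreteCategory.bijective_of_isIso (τ.hom.app V)) _).symm
  have hpre : ∀ i, r ⁻¹ᵁ Groth.L18.PUP.D (j₀ i) = G i := fun i => by
    refine le_antisymm (hmax i _ ?_)
      (Groth.L18.PUP.le_preimage_of_frame r ((hframe _ _).2 (hfrS i)))
    have h := (hframe _ _).1 (Groth.L18.PUP.rT_frame r (j₀ i))
    rwa [hSe] at h
  have hci : ∀ i, IsClosedImmersion (r ∣_ Groth.L18.PUP.D (j₀ i)) := fun i => by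
    have hD : IsAffineOpen (Groth.L18.PUP.D (R := R) (j₀ i)) :=
      Proj.isAffineOpen_basicOpen _ _ (Groth.L18.PS.X_mem n (j₀ i)) one_pos
    have hGa : IsAffineOpen (r ⁻¹ᵁ Groth.L18.PUP.D (j₀ i)) := by rw [hpre i]; exact haff i
    haveI : IsAffine (Groth.L18.PUP.D (R := R) (j₀ i)).toScheme := hD
    haveI : IsAffine (r ⁻¹ᵁ Groth.L18.PUP.D (R := R) (j₀ i)).toScheme := hGa
    have hle : G i ≤ r ⁻¹ᵁ Groth.L18.PUP.D (j₀ i) := (hpre i).ge
    have hsurj : Function.Surjective (r.appLE (Groth.L18.PUP.D (j₀ i)) (G i) hle).hom := by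
      rw [← RingHom.range_eq_top]
      refine hgen i _ (fun c => ?_) fun j a ha => ?_
      · refine ⟨(Groth.L18.PUP.pr n R).appLE ⊤ (Groth.L18.PUP.D (j₀ i)) (by simp) c, ?_⟩
        show ((Groth.L18.PUP.pr n R).appLE ⊤ (Groth.L18.PUP.D (j₀ i)) _ ≫ r.appLE _ _ hle) c = _
        rw [Scheme.Hom.appLE_comp_appLE]
        subst hr
        rfl
      · refine ⟨Groth.L18.PUP.cc (j₀ i) (e (some j)), (hfr i).inj le_rfl ?_⟩
        have h1 := congrArg (τ.hom.app (G i)) (Groth.L18.PUP.rT_smul_le r hle (e (some j)))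
        rw [Scheme.Modules.Hom.app_smul, hτrs, hτrs, hSe, hSe] at h1
        rw [rs_self]
        exact h1.trans ha.symm
    have hsurj' : Function.Surjective (r.app (Groth.L18.PUP.D (j₀ i))).hom := by
      intro y
      obtain ⟨a, ha⟩ := hsurj (X.presheaf.map (homOfLE hle).op y)
      refine ⟨a, ?_⟩
      haveI : IsIso (X.presheaf.map (homOfLE hle).op) := by
        rw [show homOfLE hle = eqToHom (hpre i).symm from rfl]; infer_instance
      exact (ConcreteCategory.bijective_of_isIso (X.presheaf.map (homOfLE hle).op)).1 ha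
    refine IsClosedImmersion.of_surjective_of_isAffine _ ?_
    rw [Scheme.Hom.appTop, morphismRestrict_app]
    intro y
    haveI : IsIso (X.presheaf.map (eqToHom (image_morphismRestrict_preimage r (Groth.L18.PUP.D (j₀ i)) ⊤)).op) :=
      inferInstance
    obtain ⟨z, rfl⟩ := (ConcreteCategory.bijective_of_isIso
      (X.presheaf.map (eqToHom (image_morphismRestrict_preimage r (Groth.L18.PUP.D (j₀ i)) ⊤)).op)).2 y
    have hs2 : Function.Surjective (r.app ((Groth.L18.PUP.D (j₀ i)).ι ''ᵁ ⊤)).hom := by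
      rw [(Groth.L18.PUP.D (j₀ i)).ι_image_top]; exact hsurj'
    obtain ⟨a, ha⟩ := hs2 z
    exact ⟨a, congrArg _ ha⟩
  haveI := isClosedImmersion_restrict_iSup r _ hci
  refine ⟨n, r, hr, ?_, ⟨τ⟩⟩
  have htop : r ⁻¹ᵁ (⨆ i, Groth.L18.PUP.D (j₀ i)) = ⊤ := eq_top_iff.2 fun x _ => by
    obtain ⟨i, hi⟩ := hcov x
    exact Opens.mem_iSup.2 ⟨i, (hpre i).ge hi⟩
  have hfac : r = (X.topIso.inv ≫ (X.isoOfEq htop.symm).hom ≫ (r ∣_ ⨆ i, Groth.L18.PUP.D (j₀ i))) ≫
      (⨆ i, Groth.L18.PUP.D (j₀ i)).ι := by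
    simp
  rw [hfac]
  infer_instance

/-- Locally on an affine open, quotients by a section generate the functions on its locus. -/
theorem mem_of_generated [CompactSpace X] {B : X.Modules} {G : X.Opens} (hG : IsAffineOpen G)
    {σ : Type u} (u : σ → (Coh.structureModule X ⟶ B)) (hu : ∀ x, ∃ m, x ∈ CohB1.genLocus B (u m)) (l : σ)
    (hV : IsAffineOpen (G ⊓ CohB1.genLocus B (u l))) (A : Subring Γ(X, G ⊓ CohB1.genLocus B (u l)))
    (hA : ∀ a : Γ(X, G), ro (inf_le_left : G ⊓ CohB1.genLocus B (u l) ≤ G) a ∈ A)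
    (hw : ∀ (m : σ) (w : Γ(X, G ⊓ CohB1.genLocus B (u l))),
      w • rs B (le_top : G ⊓ CohB1.genLocus B (u l) ≤ ⊤) (secOf (u l)) =
        rs B (le_top : G ⊓ CohB1.genLocus B (u l) ≤ ⊤) (secOf (u m)) → w ∈ A) : A = ⊤ := by
  classical
  let V : X.Opens := G ⊓ CohB1.genLocus B (u l)
  have hloc : ∀ y : G, ∃ (g : Γ(X, G)) (m : σ), y.1 ∈ X.basicOpen g ∧ X.basicOpen g ≤ CohB1.genLocus B (u m) := fun y => by
    obtain ⟨m, hm⟩ := hu y.1
    obtain ⟨g, hg, hyg⟩ := hG.exists_basicOpen_le (V := CohB1.genLocus B (u m)) ⟨y.1, hm⟩ y.2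
    exact ⟨g, m, hyg, hg⟩
  choose g mm hgy hgle using hloc
  obtain ⟨w, hw'⟩ : ∃ w : σ → Γ(X, V), ∀ m,
      w m • rs B (le_top : V ≤ ⊤) (secOf (u l)) = rs B (le_top : V ≤ ⊤) (secOf (u m)) := by
    choose w hw' using fun m => ((isFrame_genLocus (u l)).mono (inf_le_right : V ≤ _)).exists_coeff le_rfl
      (rs B le_top (secOf (u m)))
    refine ⟨w, fun m => ?_⟩
    have := hw' m
    rwa [rs_self, rs_rs] at this
  refine eq_top_iff.2 fun c _ => ?_
  -- multiples of `c` by powers of the `g y` lie in `A`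
  have key : ∀ y : G, ∃ N : ℕ, ro (inf_le_left : V ≤ G) (g y) ^ N * c ∈ A := fun y => by
    set D := X.basicOpen (g y)
    haveI := hG.isLocalization_basicOpen (g y)
    have hD : IsAffineOpen D := hG.basicOpen _
    have hfr : IsFrame B D (rs B le_top (secOf (u (mm y)))) := by
      have := (isFrame_genLocus (u (mm y))).mono (hgle y)
      rwa [rs_rs] at this
    obtain ⟨b, hb⟩ := hfr.exists_coeff le_rfl (rs B le_top (secOf (u l)))
    rw [rs_self] at hb
    have hVD : CohB1.genLocus B (u l) ⊓ D = X.basicOpen b := genLocus_inf_eq (u l) hfr hb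
    have hbV : X.basicOpen b ≤ V := fun z hz =>
      ⟨X.basicOpen_le (g y) (hVD.ge hz).2, (hVD.ge hz).1⟩
    haveI := hD.isLocalization_basicOpen b
    obtain ⟨p, h₁, hh₁⟩ := IsLocalization.Away.surj b (ro hbV c)
    obtain ⟨e, h₂, hh₂⟩ := IsLocalization.Away.surj (g y) h₁
    set E := X.basicOpen b
    have hED : E ≤ D := X.basicOpen_le b
    have hEG : E ≤ G := hED.trans (X.basicOpen_le _)
    have hwb : ro hbV (w (mm y)) * ro hED b = 1 := by
      refine hfr.inj hED ?_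
      have h1 := congrArg (rs B hbV) (hw' (mm y))
      have h2 := congrArg (rs B hED) hb
      simp only [rs_smul, rs_rs] at h1 h2
      rw [one_smul, rs_rs, mul_smul, h2, h1]
    have hE : ro hEG h₂ * ro hbV (w (mm y)) ^ p = ro hEG (g y) ^ e * ro hbV c := by
      have e1 : ro hbV c * ro hED b ^ p = ro hED h₁ := hh₁
      have e2 : ro hED h₁ * ro hEG (g y) ^ e = ro hEG h₂ := by
        have h3 := congrArg (X.presheaf.map (homOfLE hED).op) hh₂
        rw [map_mul, map_pow] at h3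
        have e3 : ∀ a : Γ(X, G), X.presheaf.map (homOfLE hED).op (algebraMap Γ(X, G) Γ(X, D) a) = ro hEG a :=
          fun a => ro_ro (X.basicOpen_le (g y)) hED a
        rwa [e3, e3] at h3
      rw [← e2, ← e1]
      calc ro hbV c * ro hED b ^ p * ro hEG (g y) ^ e * ro hbV (w (mm y)) ^ p
          = ro hEG (g y) ^ e * ro hbV c * (ro hbV (w (mm y)) * ro hED b) ^ p := by rw [mul_pow]; ring
        _ = _ := by rw [hwb, one_pow, mul_one]
    haveI := hV.isLocalization_basicOpen (ro (inf_le_left : V ≤ G) (g y))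
    have hsub : X.basicOpen (ro (inf_le_left : V ≤ G) (g y)) ≤ E := by
      rw [Scheme.basicOpen_res]
      exact fun z hz => hVD.le ⟨hz.1.2, hz.2⟩
    set d : Γ(X, V) := ro (inf_le_left : V ≤ G) h₂ * w (mm y) ^ p - ro (inf_le_left : V ≤ G) (g y) ^ e * c
    have hd : ro hbV d = 0 := by
      show X.presheaf.map _ _ = _
      rw [map_sub, map_mul, map_mul, map_pow, map_pow]
      show ro hbV (ro _ h₂) * ro hbV (w (mm y)) ^ p - ro hbV (ro _ (g y)) ^ e * ro hbV c = 0
      rw [ro_ro, ro_ro, hE, sub_self]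
    have hd' : algebraMap Γ(X, V) Γ(X, X.basicOpen (ro (inf_le_left : V ≤ G) (g y))) d = 0 := by
      have := congrArg (ro hsub) hd
      rw [ro_ro] at this
      exact this.trans (map_zero _)
    obtain ⟨⟨_, k, rfl⟩, hk⟩ := (IsLocalization.map_eq_zero_iff (Submonoid.powers (ro (inf_le_left : V ≤ G) (g y)))
      Γ(X, X.basicOpen (ro (inf_le_left : V ≤ G) (g y))) _).1 hd'
    have hk' : ro (inf_le_left : V ≤ G) (g y) ^ k * d = 0 := hk
    refine ⟨k + e, ?_⟩
    rw [pow_add, mul_assoc, show ro (inf_le_left : V ≤ G) (g y) ^ e * c =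
      ro (inf_le_left : V ≤ G) h₂ * w (mm y) ^ p - d by simp [d], mul_sub, hk', sub_zero]
    exact A.mul_mem (A.pow_mem (hA _) k) (A.mul_mem (hA _) (A.pow_mem (hw _ _ (hw' _)) p))
  choose N hN using key
  obtain ⟨T, hT⟩ := hG.isCompact.elim_finite_subcover (fun y : G => (X.basicOpen (g y) : Set X))
    (fun y => (X.basicOpen (g y)).2) fun y hy => Set.mem_iUnion.2 ⟨⟨y, hy⟩, hgy ⟨y, hy⟩⟩
  have hspan : Ideal.span (Set.range fun y : T => g y.1) = ⊤ := by
    rw [← hG.iSup_basicOpen_eq_self_iff]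
    refine le_antisymm (iSup_le fun y => X.basicOpen_le _) fun y hy => ?_
    obtain ⟨z, hz, hyz⟩ := Set.mem_iUnion₂.1 (hT hy)
    exact Opens.mem_iSup.2 ⟨⟨g z, ⟨⟨z, hz⟩, rfl⟩⟩, hyz⟩
  have hspan' : Ideal.span ((fun x => x ^ (Finset.univ.sup fun y : T => N y.1)) '' Set.range fun y : T => g y.1) = ⊤ :=
    Ideal.span_pow_eq_top _ hspan _
  let I : Ideal Γ(X, G) :=
    { carrier := {a | ro (inf_le_left : V ≤ G) a * c ∈ A}
      zero_mem' := by
        show X.presheaf.map _ (0 : Γ(X, G)) * c ∈ A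
        rw [map_zero, zero_mul]; exact A.zero_mem
      add_mem' := fun {a b} ha hb => by
        show X.presheaf.map _ (a + b) * c ∈ A
        rw [map_add, add_mul]; exact A.add_mem ha hb
      smul_mem' := fun a b hb => by
        show ro (inf_le_left : V ≤ G) (a * b) * c ∈ A
        rw [ro_mul, mul_assoc]; exact A.mul_mem (hA a) hb }
  have hI : Ideal.span ((fun x => x ^ (Finset.univ.sup fun y : T => N y.1)) '' Set.range fun y : T => g y.1) ≤ I := by
    rw [Ideal.span_le]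
    rintro _ ⟨_, ⟨y, rfl⟩, rfl⟩
    obtain ⟨e, he⟩ := Nat.exists_eq_add_of_le (Finset.le_sup (f := fun y : T => N y.1) (Finset.mem_univ y))
    show ro (inf_le_left : V ≤ G) (g y.1 ^ (Finset.univ.sup fun y : T => N y.1)) * c ∈ A
    rw [he, show ro (inf_le_left : V ≤ G) (g y.1 ^ (N y.1 + e)) = ro (inf_le_left : V ≤ G) (g y.1) ^ (N y.1 + e) from
      map_pow _ _ _, pow_add, mul_right_comm]
    exact A.mul_mem (hN y.1) (A.pow_mem (hA _) e)
  have h1 : ro (inf_le_left : V ≤ G) 1 * c ∈ A := hI (hspan' ▸ trivial : (1 : Γ(X, G)) ∈ _)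
  rwa [show ro (inf_le_left : V ≤ G) (1 : Γ(X, G)) = 1 from map_one _, one_mul] at h1

/-- Chart generators of twisted powers. -/
theorem exists_immersion_twist [CompactSpace X] [QuasiSeparatedSpace X] (q : X ⟶ Spec (CommRingCat.of R))
    [LocallyOfFiniteType q] {M : X.Modules} (hM : PicF.IsInvertible M) {ι : Type u} [Finite ι]
    (s : ι → (Coh.structureModule X ⟶ M)) (hcov : ∀ x, ∃ i, x ∈ CohB1.genLocus M (s i))
    (haff : ∀ i, IsAffineOpen (CohB1.genLocus M (s i))) {B : X.Modules} (hB : PicF.IsInvertible B)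
    {σ : Type u} [Finite σ] (u : σ → (Coh.structureModule X ⟶ B)) (hu : ∀ x, ∃ m, x ∈ CohB1.genLocus B (u m)) :
    ∃ k : ℕ, ∀ K, k ≤ K → ∃ (n : ℕ) (r : X ⟶ Groth.L18.PUP.P n R) (_ : r ≫ Groth.L18.PUP.pr n R = q),
      IsImmersion r ∧ Nonempty ((Scheme.Modules.pullback r).obj (Groth.L18.PUP.O1 n R) ≅ tw B M K) := by
  obtain ⟨γ, hγ, f, hf⟩ := exists_generators_finset q _ haff
  obtain ⟨k, hk⟩ := exists_sections hM hB s u γ f
  refine ⟨k + 1, fun K hK => ?_⟩
  choose t ht using hk K (by omega)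
  have hK1 : 1 ≤ K := by omega
  let G : ι × σ → X.Opens := fun p => CohB1.genLocus M (s p.1) ⊓ CohB1.genLocus B (u p.2)
  have hfr : ∀ p, IsFrame (tw B M K) (G p) (rs (tw B M K) le_top (powSec (s p.1) (secOf (u p.2)) K)) := fun p => by
    rw [rs_powSec]
    refine isFrame_powFrame inf_le_left ?_
    have := (isFrame_genLocus (u p.2)).mono (inf_le_right : G p ≤ _)
    rwa [rs_rs] at this
  refine exists_immersion q (isInvertible_tw hB hM K)
    (κ := (ι × σ) ⊕ ((Σ i, γ i) × σ)) (Sum.elim (fun p => powSec (s p.1) (secOf (u p.2)) K) t) Sum.inl G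
    (fun x => ?_) (fun p => ?_) hfr (fun p W hW => ?_) fun p A hc hj => ?_
  · obtain ⟨i, hi⟩ := hcov x
    obtain ⟨m, hm⟩ := hu x
    exact ⟨(i, m), hi, hm⟩
  · show IsAffineOpen (_ ⊓ _)
    rw [inf_comm]
    exact isAffineOpen_genLocus_inf hB (u p.2) (haff p.1)
  · exact le_genLocus_of_isFrame_powSec hM hB (s p.1) (u p.2) hK1 hW
  · let φ := (X.presheaf.map (homOfLE (inf_le_left : G p ≤ CohB1.genLocus M (s p.1))).op).hom
    have htop : A.comap φ = ⊤ := hf p.1 _ (fun c => by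
      show φ (q.appLE ⊤ (CohB1.genLocus M (s p.1)) _ c) ∈ A
      rw [show φ (q.appLE ⊤ (CohB1.genLocus M (s p.1)) _ c) = (q.appLE ⊤ (CohB1.genLocus M (s p.1)) _ ≫
        X.presheaf.map (homOfLE (inf_le_left : G p ≤ CohB1.genLocus M (s p.1))).op) c from rfl,
        Scheme.Hom.appLE_map]
      exact hc c) fun j => hj (Sum.inr (⟨p.1, j⟩, p.2)) _ (by
        show _ • rs (tw B M K) le_top (powSec (s p.1) (secOf (u p.2)) K) = rs (tw B M K) le_top (t (⟨p.1, j⟩, p.2))
        have h := congrArg (rs (tw B M K) (inf_le_left : G p ≤ CohB1.genLocus M (s p.1))) (ht (⟨p.1, j⟩, p.2))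
        rw [rs_rs, rs_smul, it_rs, rs_rs] at h
        rw [rs_powSec]
        exact h.symm)
    refine mem_of_generated (haff p.1) u hu p.2 ?_ A (fun a => htop.ge (x := a) trivial) fun m w hw =>
      hj (Sum.inl (p.1, m)) w ?_
    · rw [inf_comm]
      exact isAffineOpen_genLocus_inf hB (u p.2) (haff p.1)
    · show w • rs (tw B M K) le_top (powSec (s p.1) (secOf (u p.2)) K) = rs (tw B M K) le_top (powSec (s p.1) (secOf (u m)) K)
      rw [rs_powSec, rs_powSec, it_smul_of_le inf_le_left, hw]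

theorem exists_common_degree {L : X.Modules} (hL : CohB1.IsAmple L) :
    ∃ (d : ℕ) (_ : 0 < d) (ι : Type u) (_ : Finite ι) (s : ι → (Coh.structureModule X ⟶ CohB1.tensorPow L d)),
      (∀ x, ∃ i, x ∈ CohB1.genLocus _ (s i)) ∧ ∀ i, IsAffineOpen (CohB1.genLocus _ (s i)) := by
  classical
  haveI := hL.2.1
  choose m s hx hs using hL.2.2
  obtain ⟨T, hT⟩ := isCompact_univ.elim_finite_subcover
    (fun x : X => (CohB1.genLocus _ (s x) : Set X)) (fun x => (CohB1.genLocus _ (s x)).2)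
    (fun x _ => Set.mem_iUnion.2 ⟨x, hx x⟩)
  have hd : 0 < ∏ x ∈ T, (m x + 1) := Finset.prod_pos fun x _ => Nat.succ_pos _
  have hex : ∀ x : T, ∃ c, ∏ y ∈ T, (m y + 1) = (m x.1 + 1) * (c + 1) := fun x => by
    obtain ⟨c, hc⟩ := Finset.dvd_prod_of_mem (fun y => m y + 1) x.2
    refine ⟨c - 1, ?_⟩
    rcases c with _ | c
    · simp [hc] at hd
    · simpa using hc
  choose c hc using hex
  have hloc : ∀ x : T, ∃ s' : Coh.structureModule X ⟶ CohB1.tensorPow L (∏ y ∈ T, (m y + 1)),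
      CohB1.genLocus _ s' = CohB1.genLocus _ (s x.1) := fun x => by
    rw [hc x]
    refine ⟨pw (s x.1) (c x + 1) ≫ (Groth.L00.Tensor.tensorPowMul L (m x.1 + 1) (c x + 1)).hom, ?_⟩
    rw [Groth.L16.genLocus_comp_iso, genLocus_pw_succ (isInvertible_tensorPow hL.1 _)]
  choose s' hs' using hloc
  refine ⟨_, hd, T, inferInstance, s', fun x => ?_, fun i => by rw [hs' i]; exact hs i.1⟩
  obtain ⟨y, hy, hxy⟩ := Set.mem_iUnion₂.1 (hT (Set.mem_univ x))
  exact ⟨⟨y, hy⟩, by rw [hs']; exact hxy⟩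

/-- All large powers of an ample module give immersions into projective space over the affine base. -/
theorem exists_forall_immersion_of_isAmple [QuasiSeparatedSpace X] (q : X ⟶ Spec (CommRingCat.of R))
    [LocallyOfFiniteType q] {L : X.Modules} (hL : CohB1.IsAmple L) :
    ∃ N₀ : ℕ, ∀ N, N₀ ≤ N → ∃ (n : ℕ) (r : X ⟶ Groth.L18.PUP.P n R) (_ : r ≫ Groth.L18.PUP.pr n R = q),
      IsImmersion r ∧ Nonempty ((Scheme.Modules.pullback r).obj (Groth.L18.PUP.O1 n R) ≅ CohB1.tensorPow L N) := by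
  classical
  haveI := hL.2.1
  obtain ⟨d, hd, ι, hι, s, hcov, haff⟩ := exists_common_degree hL
  obtain ⟨n₁, hn₁⟩ := exists_gg_powers hL
  have hb : ∀ j : Fin d, ∃ k : ℕ, ∀ K, k ≤ K → ∃ (n : ℕ) (r : X ⟶ Groth.L18.PUP.P n R)
      (_ : r ≫ Groth.L18.PUP.pr n R = q), IsImmersion r ∧
        Nonempty ((Scheme.Modules.pullback r).obj (Groth.L18.PUP.O1 n R) ≅
          tw (CohB1.tensorPow L (n₁ + j)) (CohB1.tensorPow L d) K) := fun j => by
    obtain ⟨σ, hσ, u, hu⟩ := hn₁ (n₁ + j) (by omega)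
    exact exists_immersion_twist q (isInvertible_tensorPow hL.1 d) s hcov haff (isInvertible_tensorPow hL.1 _) u hu
  choose k hk using hb
  refine ⟨n₁ + d * (Finset.univ.sup k + 1), fun N hN => ?_⟩
  let j : Fin d := ⟨(N - n₁) % d, Nat.mod_lt _ hd⟩
  have hK : k j ≤ (N - n₁) / d := by
    have h1 : Finset.univ.sup k + 1 ≤ (N - n₁) / d :=
      (Nat.le_div_iff_mul_le hd).2 (by rw [mul_comm]; omega)
    have h2 : k j ≤ Finset.univ.sup k := Finset.le_sup (Finset.mem_univ j)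
    omega
  obtain ⟨n, r, hr, hi, ⟨e⟩⟩ := hk j _ hK
  refine ⟨n, r, hr, hi, ⟨e ≪≫ twTensorPow L (n₁ + j) d _ ≪≫ eqToIso (congrArg (CohB1.tensorPow L) ?_)⟩⟩
  have := Nat.div_add_mod (N - n₁) d
  have hj : (j : ℕ) = (N - n₁) % d := rfl
  omega

/-- An ample module gives an immersion into projective space over the affine base. -/
theorem exists_immersion_of_isAmple [QuasiSeparatedSpace X] (q : X ⟶ Spec (CommRingCat.of R))
    [LocallyOfFiniteType q] {L : X.Modules} (hL : CohB1.IsAmple L) :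
    ∃ (N : ℕ) (_ : 0 < N) (n : ℕ) (r : X ⟶ Groth.L18.PUP.P n R) (_ : r ≫ Groth.L18.PUP.pr n R = q),
      IsImmersion r ∧ Nonempty ((Scheme.Modules.pullback r).obj (Groth.L18.PUP.O1 n R) ≅ CohB1.tensorPow L N) := by
  obtain ⟨N₀, hN⟩ := exists_forall_immersion_of_isAmple q hL
  exact ⟨N₀ + 1, Nat.succ_pos _, hN _ (Nat.le_succ _)⟩

end Groth.L22.VeryAmple
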